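import Mathlib

/-! Ree's inequality on the numbers of cycles of two permutations and their product. -/

set_option autoImplicit false

namespace H30.Ree

open Module MulAction

variable {G Ω : Type*} [Group G] [MulAction G Ω] [Fintype Ω]

/-- number of orbits of a subgroup -/
noncomputable def orb (Ω : Type*) [MulAction G Ω] (H : Subgroup G) : ℕ :=
  Nat.card (orbitRel.Quotient H Ω)

/-- the operator of a group element on functions -/
def P (Ω : Type*) [MulAction G Ω] (g : G) : (Ω → ℚ) →ₗ[ℚ] (Ω → ℚ) :=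
  LinearMap.funLeft ℚ ℚ (fun a : Ω => g • a)

omit [Fintype Ω] in
theorem P_apply (g : G) (f : Ω → ℚ) (a : Ω) : P Ω g f a = f (g • a) := rfl

/-- functions constant on the orbits -/
noncomputable def C (Ω : Type*) [MulAction G Ω] (H : Subgroup G) :
    (orbitRel.Quotient H Ω → ℚ) →ₗ[ℚ] (Ω → ℚ) :=
  LinearMap.funLeft ℚ ℚ (Quotient.mk (orbitRel H Ω))

theorem finrank_range_C (H : Subgroup G) : finrank ℚ (LinearMap.range (C Ω H)) = orb Ω H := by
  classical
  haveI : Fintype (orbitRel.Quotient H Ω) := Fintype.ofFinite _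
  rw [LinearMap.finrank_range_of_inj (f := C Ω H)
    (LinearMap.funLeft_injective_of_surjective ℚ ℚ _ Quotient.mk_surjective), finrank_pi, orb,
    Nat.card_eq_fintype_card]

theorem rank_le (g : G) :
    finrank ℚ (LinearMap.range (1 - P Ω g)) + orb Ω (Subgroup.zpowers g) ≤ Fintype.card Ω := by
  have h := LinearMap.finrank_range_add_finrank_ker (1 - P Ω g)
  rw [finrank_pi] at h
  rw [← h, ← finrank_range_C]
  refine Nat.add_le_add_left (Submodule.finrank_mono ?_) _
  rintro _ ⟨f, rfl⟩
  rw [LinearMap.mem_ker]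
  funext a
  show f (Quotient.mk _ a) - f (Quotient.mk _ (g • a)) = 0
  rw [sub_eq_zero]
  congr 1
  exact (Quotient.sound (s := orbitRel (Subgroup.zpowers g) Ω)
    (orbitRel_apply.2 ⟨⟨g, Subgroup.mem_zpowers g⟩, rfl⟩)).symm

theorem fixed_le (x y : G) :
    finrank ℚ ↥(LinearMap.ker (1 - P Ω x) ⊓ LinearMap.ker (1 - P Ω y)) ≤
      orb Ω (Subgroup.closure {x, y}) := by
  rw [← finrank_range_C]
  refine Submodule.finrank_mono ?_
  rintro f ⟨h1, h2⟩
  have k : ∀ g ∈ Subgroup.closure ({x, y} : Set G), ∀ a, f (g • a) = f a := by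
    intro g hg
    induction hg using Subgroup.closure_induction with
    | mem g hg =>
      intro a
      rcases hg with rfl | rfl
      · exact (sub_eq_zero.1 (congrFun h1 a)).symm
      · exact (sub_eq_zero.1 (congrFun h2 a)).symm
    | one => intro a; rw [one_smul]
    | mul g h _ _ hg hh => intro a; rw [mul_smul, hg, hh]
    | inv g _ hg => intro a; rw [← hg, smul_inv_smul]
  refine ⟨Quotient.lift f ?_, rfl⟩
  rintro a b ⟨g, rfl⟩
  exact k g g.2 b

theorem quot_le (x y : G) :
    Fintype.card Ω ≤ finrank ℚ ↥(LinearMap.range (1 - P Ω x) ⊔ LinearMap.range (1 - P Ω y)) +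
      orb Ω (Subgroup.closure {x, y}) := by
  classical
  set W := LinearMap.range (1 - P Ω x) ⊔ LinearMap.range (1 - P Ω y) with hW
  set H := Subgroup.closure ({x, y} : Set G)
  haveI : Fintype (orbitRel.Quotient H Ω) := Fintype.ofFinite _
  have h := W.finrank_quotient_add_finrank
  rw [finrank_pi] at h
  rw [← h, add_comm]
  refine Nat.add_le_add_left ?_ _
  have s : ∀ (g : G) (a : Ω), (1 - P Ω g) (Pi.single (g • a) 1) = Pi.single (g • a) 1 - Pi.single a 1 := by
    intro g a
    funext b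
    show (Pi.single (g • a) 1 : Ω → ℚ) b - (Pi.single (g • a) 1 : Ω → ℚ) (g • b) =
      (Pi.single (g • a) 1 : Ω → ℚ) b - (Pi.single a 1 : Ω → ℚ) b
    simp only [Pi.single_apply, smul_left_cancel_iff]
  have k : ∀ g ∈ H, ∀ a : Ω, W.mkQ (Pi.single (g • a) 1) = W.mkQ (Pi.single a 1) := by
    intro g hg
    induction hg using Subgroup.closure_induction with
    | mem g hg =>
      intro a
      refine (Submodule.Quotient.eq W).2 ?_
      rw [← s]
      rcases hg with rfl | rfl
      · exact Submodule.mem_sup_left ⟨_, rfl⟩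
      · exact Submodule.mem_sup_right ⟨_, rfl⟩
    | one => intro a; rw [one_smul]
    | mul g h _ _ hg hh => intro a; rw [mul_smul, hg, hh]
    | inv g _ hg => intro a; rw [← hg, smul_inv_smul]
  let v : orbitRel.Quotient H Ω → (Ω → ℚ) ⧸ W :=
    Quotient.lift (fun a => W.mkQ (Pi.single a 1)) (by
      rintro a b ⟨g, rfl⟩
      exact k g g.2 b)
  have hs : Submodule.span ℚ (Set.range v) = ⊤ := by
    rw [eq_top_iff, ← W.range_mkQ, LinearMap.range_eq_map, ← (Pi.basisFun ℚ Ω).span_eq,
      Submodule.map_span, Submodule.span_le]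
    rintro _ ⟨_, ⟨a, rfl⟩, rfl⟩
    refine Submodule.subset_span ⟨Quotient.mk _ a, ?_⟩
    rw [Pi.basisFun_apply]
    rfl
  have := finrank_range_le_card (R := ℚ) v
  rw [Set.finrank, hs, finrank_top] at this
  rwa [orb, Nat.card_eq_fintype_card]

/-- **Ree's inequality** -/
theorem ree (x y : G) :
    orb Ω (Subgroup.zpowers x) + orb Ω (Subgroup.zpowers y) + orb Ω (Subgroup.zpowers (x * y)) ≤
      Fintype.card Ω + 2 * orb Ω (Subgroup.closure {x, y}) := by
  set A := LinearMap.range (1 - P Ω y) with hA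
  set B := LinearMap.range (P Ω y ∘ₗ (1 - P Ω x)) with hB
  set R := LinearMap.range (1 - P Ω (x * y)) with hR
  let φ : (Ω → ℚ) →ₗ[ℚ] A × B :=
    (1 - P Ω y).rangeRestrict.prod (P Ω y ∘ₗ (1 - P Ω x)).rangeRestrict
  let σ : A × B →ₗ[ℚ] (Ω → ℚ) := A.subtype.coprod B.subtype
  have inj : Function.Injective (P Ω y) :=
    LinearMap.funLeft_injective_of_surjective ℚ ℚ _ (MulAction.surjective y)
  have k1 : LinearMap.ker φ = LinearMap.ker (1 - P Ω x) ⊓ LinearMap.ker (1 - P Ω y) := by
    rw [LinearMap.ker_prod, LinearMap.ker_rangeRestrict, LinearMap.ker_rangeRestrict, inf_comm,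
      LinearMap.ker_comp, LinearMap.ker_eq_bot.2 inj]
    rfl
  have k2 : LinearMap.range φ ≤ R.comap σ := by
    rintro _ ⟨f, rfl⟩
    refine ⟨f, ?_⟩
    funext a
    show f a - f ((x * y) • a) = (f a - f (y • a)) + (f (y • a) - f (x • y • a))
    rw [mul_smul]
    ring
  have k3 : finrank ℚ (R.comap σ) ≤ finrank ℚ R + finrank ℚ (LinearMap.ker σ) := by
    have h := LinearMap.finrank_range_add_finrank_ker (K := ℚ) (V := R.comap σ) (V₂ := Ω → ℚ)
      (σ.domRestrict (R.comap σ))
    rw [← h]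
    refine Nat.add_le_add (Submodule.finrank_mono ?_) ?_
    · rintro _ ⟨f, rfl⟩
      exact f.2
    · rw [LinearMap.ker_domRestrict, ← Submodule.finrank_map_subtype_eq]
      exact Submodule.finrank_mono (Submodule.map_comap_le _ _)
  have k4 : LinearMap.range (1 - P Ω x) ⊔ LinearMap.range (1 - P Ω y) ≤ LinearMap.range σ := by
    rw [LinearMap.range_coprod, Submodule.range_subtype, Submodule.range_subtype]
    refine sup_le ?_ le_sup_left
    rintro _ ⟨f, rfl⟩
    have : (1 - P Ω x) f = (1 - P Ω y) ((1 - P Ω x) f) + (P Ω y ∘ₗ (1 - P Ω x)) f := by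
      simp
    rw [this]
    exact Submodule.add_mem_sup ⟨_, rfl⟩ ⟨_, rfl⟩
  have k5 : finrank ℚ B ≤ finrank ℚ (LinearMap.range (1 - P Ω x)) := by
    rw [hB, LinearMap.range_comp]
    exact Submodule.finrank_map_le _ _
  have h1 := LinearMap.finrank_range_add_finrank_ker φ
  have h2 := LinearMap.finrank_range_add_finrank_ker σ
  rw [finrank_pi, k1] at h1
  rw [finrank_prod] at h2
  have h3 := Submodule.finrank_mono k2
  have h4 := Submodule.finrank_mono k4
  have h5 := fixed_le (Ω := Ω) x y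
  have h6 := quot_le (Ω := Ω) x y
  have h7 := rank_le (Ω := Ω) x
  have h8 := rank_le (Ω := Ω) y
  have h9 := rank_le (Ω := Ω) (x * y)
  rw [← hA] at h8
  rw [← hR] at h9
  omega

/-- lower bound for the number of cycles -/
theorem le_orb [Finite G] (g : G) :
    Fintype.card Ω + (orderOf g - 1) * (fixedBy Ω g).ncard ≤ orb Ω (Subgroup.zpowers g) * orderOf g := by
  classical
  haveI : Fintype (Subgroup.zpowers g) := Fintype.ofFinite _
  haveI : Fintype (orbitRel.Quotient (Subgroup.zpowers g) Ω) := Fintype.ofFinite _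
  haveI : ∀ a : Subgroup.zpowers g, Fintype (fixedBy Ω a) := fun _ => Fintype.ofFinite _
  have h := sum_card_fixedBy_eq_card_orbits_mul_card_group (Subgroup.zpowers g) Ω
  rw [← Nat.card_eq_fintype_card, ← Nat.card_eq_fintype_card, Nat.card_zpowers,
    ← Finset.add_sum_erase _ _ (Finset.mem_univ 1)] at h
  rw [orb, ← h]
  refine Nat.add_le_add ?_ ?_
  · rw [← Nat.card_eq_fintype_card, ← Nat.card_eq_fintype_card, fixedBy_one_eq_univ]
    exact (Nat.card_congr (Equiv.Set.univ Ω)).ge
  · have c : (Finset.univ.erase (1 : Subgroup.zpowers g)).card = orderOf g - 1 := by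
      rw [Finset.card_erase_of_mem (Finset.mem_univ _), Finset.card_univ, ← Nat.card_eq_fintype_card,
        Nat.card_zpowers]
    rw [← c, ← smul_eq_mul]
    refine Finset.card_nsmul_le_sum _ _ _ fun a _ => ?_
    rw [← Nat.card_eq_fintype_card, Nat.card_coe_set_eq]
    refine Set.ncard_le_ncard (fun b hb => ?_) (Set.toFinite _)
    obtain ⟨a, k, rfl⟩ := a
    exact fixedBy_subset_fixedBy_zpow Ω g k hb

end H30.Ree
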